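import Groth.Agent.QCoh.RpushClosed
import Groth.Agent.QCoh.RpushGod
import Groth.Agent.NormX.RelVanishing
import Groth.Agent.AmpleX.Comp
import Groth.Agent.IntNum.Push
import Groth.Agent.ExtShX.Resolution
import Groth.Agent.AmpleVan.Tw

/-!
# Serre vanishing for coherent modules with proper support, and exactness of twisted direct images
-/

set_option autoImplicit false
set_option linter.style.haveILetI false
set_option backward.isDefEq.respectTransparency false
set_option backward.isDefEq.respectTransparency.types false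
set_option maxHeartbeats 1000000
universe u
open CategoryTheory CategoryTheory.Limits AlgebraicGeometry TopologicalSpace Opposite
open scoped Groth.Agent.H23.PicMul

noncomputable section

namespace Groth.Agent.SuppVan

open Groth.Agent

variable {X Y : Scheme.{u}} (f : X ⟶ Y) [AlgebraicGeometry.IsNoetherian Y] [LocallyOfFiniteType f]
  [QuasiCompact f] [HasInjectiveResolutions X.Modules]

/-- `R^q f_*(A(n)) = 0` for `q > 0`, `n` large, when the support of `A` is proper over the base. -/
theorem exists_vanishing {L : X.Modules} (hL : PicF.IsInvertible L) (hamp : RelAmple.IsRelAmple f L)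
    {A : X.Modules} (hA : Coh.IsCoh A) (hs : ClSub.IsProperOver f (CohB1.support A)) :
    ∃ N : ℕ, ∀ n, N ≤ n → ∀ q : ℕ,
      IsZero ((Coh.Rpush f (q + 1)).obj (CohB1.tensorMod A (CohB1.tensorPow L n))) := by
  obtain ⟨T, i, G, hi, hr, hGq, hGt, ⟨e⟩⟩ := QCoh.exists_closed_model hA.1 hA.2
  haveI := hi
  rw [← hr] at hs
  haveI : IsProper (i ≫ f) := (QCoh.isProperOver_iff i).1 hs
  haveI : HasInjectiveResolutions T.Modules := KFlatLib.hasInjectiveResolutions_modules
  let L' := (Scheme.Modules.pullback i).obj L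
  have hL' : PicF.IsInvertible L' := PicClLib.isInvertible_pullback i hL
  have hamp' : RelAmple.IsRelAmple (i ≫ f) L' :=
    AmpleX.isRelAmple_pullback_embedding f i i.isClosedEmbedding.isEmbedding hamp
  obtain ⟨N, hN⟩ := NormX.exists_vanishing_Rpush (f := i ≫ f) hamp'.2 hL' (M := G) ⟨hGq, hGt⟩
  refine ⟨N, fun n hn q => ?_⟩
  obtain ⟨e₁⟩ := IntNum.push_tensor i G (CohB1.tensorPow L n)
  obtain ⟨e₂⟩ : Nonempty ((Scheme.Modules.pullback i).obj (CohB1.tensorPow L n) ≅ CohB1.tensorPow L' n) :=
    H23.PicMul.cl_eq_iff.1 (by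
      show PicF.pullCl i (PicF.cl _) = _
      rw [H23.PicMul.cl_tensorPow, H23.PicMul.cl_tensorPow, H23.PicMul.pullCl_pow]
      rfl)
  obtain ⟨e₃⟩ := QCoh.nonempty_Rpush_affine_push i f
    (M := CohB1.tensorMod G ((Scheme.Modules.pullback i).obj (CohB1.tensorPow L n)))
    (KFlatLib.isQCoh_tensor hGq (QCoh.isQCoh_pullback i
      (ProjUPX.isQCoh_of_isInvertible (InvX.isInvertible_tensorPow hL n)))) (q + 1)
  exact (hN n hn q).of_iso ((Coh.Rpush f (q + 1)).mapIso ((PicGrp.tensorModIso e.symm (Iso.refl _)) ≪≫ e₁.symm) ≪≫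
    e₃ ≪≫ (Coh.Rpush (i ≫ f) (q + 1)).mapIso (PicGrp.tensorModIso (Iso.refl G) e₂))

omit [AlgebraicGeometry.IsNoetherian Y] [LocallyOfFiniteType f] [QuasiCompact f] in
/-- Direct images preserve the surjectivity in a short exact sequence with `R^1` of the first term zero. -/
theorem epi_push_map {S : ShortComplex X.Modules} (hS : S.ShortExact)
    (h : IsZero ((Coh.Rpush f 1).obj S.X₁)) : Epi ((Coh.push f).map S.g) := by
  haveI := SpObjSS.enoughInjectives_of_hasInjectiveResolutions (C := X.Modules)
  haveI := QCoh.preservesFiniteLimits_push f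
  let F := Scheme.Modules.pushforward f
  let := HasDerivedCategory.standard X.Modules
  let := HasDerivedCategory.standard Y.Modules
  obtain ⟨δ, w₁, w₂, w₃, -, e₂, e₃⟩ := TriCat.exists_rightDerived_ses F hS 0
  haveI : Epi ((F.rightDerived 0).map S.g) := e₂.epi_f (h.eq_of_tgt _ _)
  have e : (F.rightDerived 0).map S.g ≫ F.rightDerivedZeroIsoSelf.hom.app S.X₃ =
      F.rightDerivedZeroIsoSelf.hom.app S.X₂ ≫ F.map S.g := F.rightDerivedZeroIsoSelf.hom.naturality S.g
  haveI : Epi (F.rightDerivedZeroIsoSelf.hom.app S.X₂ ≫ F.map S.g) := by rw [← e]; infer_instance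
  exact epi_of_epi (F.rightDerivedZeroIsoSelf.hom.app S.X₂) _

theorem support_subset_of_mono {A B : X.Modules} (hA : Coh.IsQCoh A) (hB : Coh.IsQCoh B) (k : A ⟶ B) [Mono k] :
    CohB1.support A ⊆ CohB1.support B := QCoh.mem_support_of_mono hA hB k

/-- Twisted direct images of an exact sequence are eventually exact. -/
theorem eventually_exact {L : X.Modules} (hL : PicF.IsInvertible L) (hamp : RelAmple.IsRelAmple f L)
    (C : ShortComplex X.Modules) (hC : C.Exact) (h1 : Coh.IsCoh C.X₁) (h2 : Coh.IsCoh C.X₂) (h3 : Coh.IsQCoh C.X₃)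
    (hs1 : ClSub.IsProperOver f (CohB1.support C.X₁)) :
    ∃ N : ℕ, ∀ n : ℕ, N ≤ n →
      (C.map (DCoh.tensorRightMod (CohB1.tensorPow L n) ⋙ Coh.push f)).Exact := by
  haveI : IsLocallyNoetherian X := LocallyOfFiniteType.isLocallyNoetherian f
  let k := kernel.lift C.g C.f C.zero
  haveI : Epi k := (ShortComplex.exact_iff_epi_kernel_lift C).1 hC
  let A := kernel k
  have hK : Coh.IsQCoh (kernel C.g) := QCoh.isQCoh_kernel h2.1 h3 C.g
  have hA : Coh.IsCoh A := QCoh.isCoh_of_mono (kernel.ι k) h1 (QCoh.isQCoh_kernel h1.1 hK k)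
  obtain ⟨N, hN⟩ := exists_vanishing f hL hamp hA
    (QCoh.IsProperOver.subset hs1 (QCoh.isClosed_support_of_isFT hA.1 hA.2)
      (support_subset_of_mono hA.1 h1.1 (kernel.ι k)))
  refine ⟨N, fun n hn => ?_⟩
  let P := CohB1.tensorPow L n
  let T := DCoh.tensorRightMod P
  haveI := AmpleVan.isEquivalence_tw (InvX.isInvertible_tensorPow hL n)
  haveI : T.IsEquivalence := Functor.isEquivalence_of_iso (ExtShX.flipRightIso X P)
  haveI : PreservesFiniteLimits T := inferInstance
  haveI := QCoh.preservesFiniteLimits_push f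
  haveI : (Coh.push f).Additive := Functor.additive_of_preserves_binary_products _
  let F := T ⋙ Coh.push f
  haveI : PreservesFiniteLimits F := comp_preservesFiniteLimits _ _
  haveI : F.Additive := inferInstance
  let S := ShortComplex.mk (kernel.ι k) k (kernel.condition k)
  have hS : S.ShortExact := { exact := ShortComplex.exact_kernel k }
  haveI : PreservesFiniteColimits T := inferInstance
  haveI : Epi (F.map k) := epi_push_map f (hS.map_of_exact T) ((hN n hn 0).of_iso
    ((Coh.Rpush f 1).mapIso (Iso.refl _)))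
  refine (ShortComplex.exact_iff_epi_kernel_lift _).2 ?_
  have e : kernel.lift (F.map C.g) (F.map C.f) (by rw [← F.map_comp, C.zero, F.map_zero]) =
      F.map k ≫ (PreservesKernel.iso F C.g).hom := by
    refine equalizer.hom_ext ?_
    rw [kernel.lift_ι, Category.assoc, PreservesKernel.iso_hom, kernelComparison_comp_ι, ← F.map_comp, kernel.lift_ι]
  show Epi (kernel.lift (F.map C.g) (F.map C.f) _)
  rw [e]
  exact epi_comp _ _

end Groth.Agent.SuppVan
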